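import Mathlib

/-!
# Elementary abelian groups of order eight in GL(3, F)
-/

namespace CfsgLib.GLThree

variable {F : Type*} [Field F]

/-- Commuting involutions have a spanning set of common eigenvectors. -/
theorem span_signEigen {n : ℕ} (h2 : (2 : F) ≠ 0) (W : Set (Matrix.GeneralLinearGroup (Fin n) F))
    (hinv : ∀ w ∈ W, w * w = 1) (hcomm : ∀ v ∈ W, ∀ w ∈ W, v * w = w * v)
    (T : Finset (Matrix.GeneralLinearGroup (Fin n) F)) (hT : ∀ w ∈ T, w ∈ W) :
    Submodule.span F {x : Fin n → F | ∀ w ∈ T,
      (w : Matrix (Fin n) (Fin n) F).mulVec x = x ∨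
      (w : Matrix (Fin n) (Fin n) F).mulVec x = -x} = ⊤ := by
  classical
  induction T using Finset.induction_on with
  | empty =>
    rw [eq_top_iff]
    intro x _
    exact Submodule.subset_span (fun w hw => absurd hw (Finset.notMem_empty w))
  | @insert a S ha ih =>
    have haW : a ∈ W := hT a (Finset.mem_insert_self a S)
    have ihS := ih fun w hw => hT w (Finset.mem_insert_of_mem hw)
    rw [eq_top_iff, ← ihS, Submodule.span_le]
    intro x hx
    set A := (a : Matrix (Fin n) (Fin n) F)
    have hAA : A.mulVec (A.mulVec x) = x := by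
      rw [Matrix.mulVec_mulVec]
      change ((a * a : Matrix.GeneralLinearGroup (Fin n) F) : Matrix (Fin n) (Fin n) F).mulVec x = x
      rw [hinv a haW]
      exact Matrix.one_mulVec x
    have key : ∀ s : F, s = 1 ∨ s = -1 → (x + s • A.mulVec x) ∈
        {x : Fin n → F | ∀ w ∈ insert a S, (w : Matrix (Fin n) (Fin n) F).mulVec x = x ∨
          (w : Matrix (Fin n) (Fin n) F).mulVec x = -x} := by
      intro s hs w hw
      rcases Finset.mem_insert.mp hw with rfl | hwS
      · rcases hs with rfl | rfl
        · left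
          rw [one_smul, Matrix.mulVec_add, hAA, add_comm]
        · right
          rw [neg_one_smul, Matrix.mulVec_add, Matrix.mulVec_neg, hAA]
          abel
      · have hc : (w : Matrix (Fin n) (Fin n) F).mulVec (A.mulVec x) =
            A.mulVec ((w : Matrix (Fin n) (Fin n) F).mulVec x) := by
          rw [Matrix.mulVec_mulVec, Matrix.mulVec_mulVec]
          congr 1
          exact congrArg Units.val (hcomm w (hT w hw) a haW)
        rcases hx w hwS with h | h
        · left
          rw [Matrix.mulVec_add, Matrix.mulVec_smul, hc, h]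
        · right
          rw [Matrix.mulVec_add, Matrix.mulVec_smul, hc, h, Matrix.mulVec_neg, smul_neg, neg_add]
    have hx2 : x = (2 : F)⁻¹ • ((x + (1 : F) • A.mulVec x) + (x + (-1 : F) • A.mulVec x)) := by
      rw [one_smul, neg_one_smul, show (x + A.mulVec x) + (x + -A.mulVec x) = (2 : F) • x by
        rw [two_smul]; abel, smul_smul, inv_mul_cancel₀ h2, one_smul]
    rw [SetLike.mem_coe, hx2]
    exact Submodule.smul_mem _ _ (Submodule.add_mem _ (Submodule.subset_span (key 1 (.inl rfl)))
      (Submodule.subset_span (key (-1) (.inr rfl))))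

/-- An elementary abelian subgroup of order eight of GL(3,F) contains `-1` and has abelian
centralizer. -/
theorem structure_of_card_eight [Finite F] (h2 : (2 : F) ≠ 0)
    (W : Subgroup (Matrix.GeneralLinearGroup (Fin 3) F)) (hcard : Nat.card W = 8)
    (hinv : ∀ w ∈ W, w * w = 1) (hcomm : ∀ v ∈ W, ∀ w ∈ W, v * w = w * v) :
    (∃ w ∈ W, (w : Matrix (Fin 3) (Fin 3) F) = -1) ∧
    ∀ x y : Matrix.GeneralLinearGroup (Fin 3) F, (∀ w ∈ W, x * w = w * x) →
      (∀ w ∈ W, y * w = w * y) → x * y = y * x := by
  classical
  haveI : Finite W := Nat.finite_of_card_ne_zero (by omega)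
  haveI := Fintype.ofFinite W
  set T : Finset (Matrix.GeneralLinearGroup (Fin 3) F) :=
    Finset.univ.image (fun w : W => (w : Matrix.GeneralLinearGroup (Fin 3) F))
  have hTW : ∀ w, w ∈ T ↔ w ∈ W := by simp [T]
  have hspan := span_signEigen h2 (W : Set _) hinv hcomm T fun w hw => (hTW w).mp hw
  set S := {x : Fin 3 → F | ∀ w ∈ T, (w : Matrix (Fin 3) (Fin 3) F).mulVec x = x ∨
      (w : Matrix (Fin 3) (Fin 3) F).mulVec x = -x}
  let b := Module.Basis.ofSpan (le_of_eq hspan.symm)
  have hbS : ∀ i, b i ∈ S := fun i => Module.Basis.ofSpan_subset (le_of_eq hspan.symm) ⟨i, rfl⟩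
  haveI : Finite (Fin 3 → F) := inferInstance
  let ι := (((linearIndepOn_empty F id).extend (Set.empty_subset S)) : Set (Fin 3 → F))
  haveI : Fintype ι := Fintype.ofFinite ι
  have hι : Fintype.card ι = 3 := by
    rw [← Module.finrank_eq_card_basis b]
    simp
  let σ : W → ι → Bool := fun w i =>
    decide (((w : Matrix.GeneralLinearGroup (Fin 3) F) : Matrix (Fin 3) (Fin 3) F).mulVec (b i) = b i)
  have hσinj : Function.Injective σ := by
    intro v w h
    apply Subtype.ext
    apply Units.ext
    apply Matrix.toLin'.injective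
    refine b.ext fun i => ?_
    rw [Matrix.toLin'_apply, Matrix.toLin'_apply]
    have hi := congrFun h i
    simp only [σ, decide_eq_decide] at hi
    by_cases h1 : ((v : Matrix.GeneralLinearGroup (Fin 3) F) : Matrix (Fin 3) (Fin 3) F).mulVec (b i) = b i
    · rw [h1, hi.mp h1]
    · rw [(hbS i v ((hTW _).mpr v.2)).resolve_left h1,
        (hbS i w ((hTW _).mpr w.2)).resolve_left (fun h => h1 (hi.mpr h))]
  have hσ : Function.Surjective σ := by
    refine (hσinj.bijective_of_nat_card_le ?_).2
    rw [hcard, Nat.card_fun, Nat.card_eq_fintype_card, Nat.card_eq_fintype_card, hι]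
    simp
  have hne : ∀ i, -b i ≠ b i := by
    intro i h
    have h' : (2 : F) • b i = 0 := by
      rw [two_smul]
      nth_rewrite 1 [← h]
      exact neg_add_cancel _
    exact b.ne_zero i ((smul_eq_zero.mp h').resolve_left h2)
  have hval : ∀ (w : W) (i : ι), σ w i = false →
      ((w : Matrix.GeneralLinearGroup (Fin 3) F) : Matrix (Fin 3) (Fin 3) F).mulVec (b i) = -b i := by
    intro w i h
    simp only [σ, decide_eq_false_iff_not] at h
    exact (hbS i w ((hTW _).mpr w.2)).resolve_left h
  refine ⟨?_, ?_⟩
  · obtain ⟨w, hw⟩ := hσ fun _ => false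
    refine ⟨w, w.2, Matrix.toLin'.injective (b.ext fun i => ?_)⟩
    rw [Matrix.toLin'_apply, Matrix.toLin'_apply, hval w i (congrFun hw i), Matrix.neg_mulVec,
      Matrix.one_mulVec]
  have hdiag : ∀ x : Matrix.GeneralLinearGroup (Fin 3) F, (∀ w ∈ W, x * w = w * x) → ∀ i, ∃ c : F,
      (x : Matrix (Fin 3) (Fin 3) F).mulVec (b i) = c • b i := by
    intro x hx i
    obtain ⟨w, hw⟩ := hσ fun j => decide (j = i)
    set M := ((w : Matrix.GeneralLinearGroup (Fin 3) F) : Matrix (Fin 3) (Fin 3) F)
    set u := (x : Matrix (Fin 3) (Fin 3) F).mulVec (b i) with hu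
    have h1 : M.mulVec (b i) = b i := by
      have := congrFun hw i
      simpa [σ] using this
    have hu1 : M.mulVec u = u := by
      have hM : M * (x : Matrix (Fin 3) (Fin 3) F) = (x : Matrix (Fin 3) (Fin 3) F) * M :=
        (congrArg Units.val (hx w w.2)).symm
      rw [hu, Matrix.mulVec_mulVec, hM, ← Matrix.mulVec_mulVec, h1]
    refine ⟨b.repr u i, b.ext_elem fun j => ?_⟩
    by_cases hji : j = i
    · subst hji
      simp
    · have hcoord : b.repr (M.mulVec u) j = -b.repr u j := by
        have hlin : (b.coord j).comp (Matrix.toLin' M) = -(b.coord j) := by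
          refine b.ext fun k => ?_
          rw [LinearMap.comp_apply, Matrix.toLin'_apply, LinearMap.neg_apply]
          by_cases hki : k = i
          · subst hki
            rw [h1]
            simp [Module.Basis.coord_apply, hji]
          · have hk : σ w k = false := by simp [hw, hki]
            rw [hval w k hk, map_neg]
        have := LinearMap.congr_fun hlin u
        simpa [Module.Basis.coord_apply] using this
      rw [hu1] at hcoord
      have h0 : b.repr u j = 0 := by
        have h' : (2 : F) * b.repr u j = 0 := by rw [two_mul]; linear_combination hcoord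
        exact (mul_eq_zero.mp h').resolve_left h2
      rw [h0]
      simp [hji]
  intro x y hx hy
  apply Units.ext
  apply Matrix.toLin'.injective
  refine b.ext fun i => ?_
  obtain ⟨c, hc⟩ := hdiag x hx i
  obtain ⟨d, hd⟩ := hdiag y hy i
  rw [Matrix.toLin'_apply, Matrix.toLin'_apply, Units.val_mul, Units.val_mul,
    ← Matrix.mulVec_mulVec, ← Matrix.mulVec_mulVec, hd, Matrix.mulVec_smul, hc,
    Matrix.mulVec_smul, hd, smul_smul, smul_smul, mul_comm]

end CfsgLib.GLThree
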